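import Mathlib
import Cfsg.Agent.H234.HT.ExcDefs

/-!
# S4933, part (O), exceptional groups: counting (helper73)

`ex i` the exponents of the eigenvalues of an element of order `p ^ m`.

* `Cnt.of_mod` : it is enough that for some `t ≠ 0` in `ZMod p` the number of the `i` with `ex i = t` in `ZMod p` is
  prime to `p`;
* `cnt_of_unit` : `g` a unit of `ZMod p` with `#{ex i = g t} = #{ex i = t}`, the number of the `i` with `ex i ≠ 0` is smaller
  than `p * orderOf g`.
-/

set_option autoImplicit false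

namespace Cfsg.Agent.H73.HT

open Cfsg.Agent.H234.HT Finset

variable {p m : ℕ} [hp : Fact p.Prime] {ι : Type*} [Fintype ι]

/-- the number of the exponents equal to `t` modulo `p` -/
def nm (p : ℕ) {ι : Type*} [Fintype ι] (ex : ι → ℕ) (t : ZMod p) : ℕ :=
  (univ.filter fun i => ((ex i : ℕ) : ZMod p) = t).card

/-- counting modulo `p` is enough -/
theorem cnt_of_mod (hm : 2 ≤ m) (ex : ι → ℕ) {t : ZMod p} (ht : t ≠ 0) (h : ¬ p ∣ nm p ex t) : Cnt p m ex := by
  classical
  by_contra hcon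
  have hN : 0 < p ^ (m - 1) := pow_pos hp.out.pos _
  have hpN : p ∣ p ^ (m - 1) := dvd_pow_self p (by omega)
  have h1 : ∀ r : ℕ, ¬ p ∣ r → p ∣ (univ.filter fun i => ex i % p ^ (m - 1) = r % p ^ (m - 1)).card := by
    intro r hr
    by_contra h2
    exact hcon ⟨r, hr, Or.inl h2⟩
  apply h
  have h2 : ∀ i ∈ (univ.filter fun i => ((ex i : ℕ) : ZMod p) = t), ex i % p ^ (m - 1) ∈ range (p ^ (m - 1)) :=
    fun i _ => mem_range.2 (Nat.mod_lt _ hN)
  unfold nm
  rw [card_eq_sum_card_fiberwise h2]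
  refine dvd_sum fun c hc => ?_
  by_cases hct : ((c : ℕ) : ZMod p) = t
  · have h3 : ¬ p ∣ c := by
      intro h4
      apply ht
      rw [← hct]
      exact (ZMod.natCast_eq_zero_iff _ _).2 h4
    have h4 : (filter (fun i => ex i % p ^ (m - 1) = c) (univ.filter fun i => ((ex i : ℕ) : ZMod p) = t)) =
        (univ.filter fun i => ex i % p ^ (m - 1) = c % p ^ (m - 1)) := by
      ext i
      simp only [mem_filter, mem_univ, true_and]
      rw [Nat.mod_eq_of_lt (mem_range.1 hc)]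
      constructor
      · exact fun h => h.2
      · intro h
        refine ⟨?_, h⟩
        rw [← hct, ← h, ZMod.natCast_eq_natCast_iff]
        exact ((Nat.mod_modEq (ex i) (p ^ (m - 1))).of_dvd hpN).symm
    rw [h4]
    exact h1 c h3
  · have h4 : (filter (fun i => ex i % p ^ (m - 1) = c) (univ.filter fun i => ((ex i : ℕ) : ZMod p) = t)) = ∅ := by
      ext i
      simp only [mem_filter, mem_univ, true_and, notMem_empty, iff_false, not_and]
      intro h5 h6
      apply hct
      rw [← h5, ← h6, ZMod.natCast_eq_natCast_iff]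
      exact (Nat.mod_modEq (ex i) (p ^ (m - 1))).of_dvd hpN
    rw [h4, card_empty]
    exact dvd_zero _

/-- **the generic bound** -/
theorem cnt_of_unit (hm : 2 ≤ m) (ex : ι → ℕ) (g : (ZMod p)ˣ) (hg : ∀ t : ZMod p, nm p ex (g * t) = nm p ex t) {i₀ : ι}
    (hi : ¬ p ∣ ex i₀) (hb : (univ.filter fun i => ((ex i : ℕ) : ZMod p) ≠ 0).card < p * orderOf g) : Cnt p m ex := by
  classical
  set t₀ : ZMod p := ((ex i₀ : ℕ) : ZMod p) with ht₀
  have h0 : t₀ ≠ 0 := fun h => hi ((ZMod.natCast_eq_zero_iff _ _).1 h)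
  refine cnt_of_mod hm ex h0 fun hdvd => ?_
  have hpos : 0 < nm p ex t₀ := card_pos.2 ⟨i₀, mem_filter.2 ⟨mem_univ _, rfl⟩⟩
  have hle : p ≤ nm p ex t₀ := Nat.le_of_dvd hpos hdvd
  have hpw : ∀ j : ℕ, nm p ex (((g ^ j : (ZMod p)ˣ) : ZMod p) * t₀) = nm p ex t₀ := by
    intro j
    induction j with
    | zero => rw [pow_zero, Units.val_one, one_mul]
    | succ j ih => rw [pow_succ', Units.val_mul, mul_assoc, hg, ih]
  let T : Finset (ZMod p) := (range (orderOf g)).image fun j => ((g ^ j : (ZMod p)ˣ) : ZMod p) * t₀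
  have hT : T.card = orderOf g := by
    rw [card_image_of_injOn, card_range]
    intro i hi' j hj h
    have h1 : ((g ^ i : (ZMod p)ˣ) : ZMod p) = ((g ^ j : (ZMod p)ˣ) : ZMod p) := mul_right_cancel₀ h0 h
    exact pow_injOn_Iio_orderOf (by simpa using hi') (by simpa using hj) (Units.ext h1)
  have hsub : (T.biUnion fun t => univ.filter fun i => ((ex i : ℕ) : ZMod p) = t) ⊆
      (univ.filter fun i => ((ex i : ℕ) : ZMod p) ≠ 0) := by
    intro i hi'
    rw [mem_biUnion] at hi'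
    obtain ⟨t, ht, hit⟩ := hi'
    rw [mem_filter] at hit ⊢
    refine ⟨mem_univ _, ?_⟩
    rw [hit.2]
    obtain ⟨j, -, rfl⟩ := mem_image.1 ht
    exact mul_ne_zero (Units.ne_zero _) h0
  have hcard : (T.biUnion fun t => univ.filter fun i => ((ex i : ℕ) : ZMod p) = t).card = T.card * nm p ex t₀ := by
    rw [card_biUnion]
    · rw [sum_const_nat (m := nm p ex t₀)]
      intro t ht
      obtain ⟨j, -, rfl⟩ := mem_image.1 ht
      exact hpw j
    · intro a _ b _ hab
      rw [Function.onFun, disjoint_left]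
      intro i h1 h2
      rw [mem_filter] at h1 h2
      exact hab (h1.2.symm.trans h2.2)
  have h3 := card_le_card hsub
  rw [hcard, hT] at h3
  have h4 : p * orderOf g ≤ orderOf g * nm p ex t₀ := by
    rw [mul_comm p]
    exact Nat.mul_le_mul_left _ hle
  omega

/-- the unit of the class of `q`, or its negative if the order is odd -/
theorem exists_unit (hp2 : p ≠ 2) {q : ℕ} (hq : ¬ p ∣ q) : ∃ g : (ZMod p)ˣ,
    ((g : ZMod p) = (q : ZMod p) ∨ (g : ZMod p) = -(q : ZMod p)) ∧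
      orderOf g = if Even (orderOf ((q : ℕ) : ZMod p)) then orderOf ((q : ℕ) : ZMod p) else
        2 * orderOf ((q : ℕ) : ZMod p) := by
  have hq0 : ((q : ℕ) : ZMod p) ≠ 0 := fun h => hq ((ZMod.natCast_eq_zero_iff _ _).1 h)
  set u : (ZMod p)ˣ := Units.mk0 _ hq0 with hu
  have huv : (u : ZMod p) = (q : ZMod p) := rfl
  have ho : orderOf u = orderOf ((q : ℕ) : ZMod p) := by rw [← orderOf_units, huv]
  split_ifs with h
  · exact ⟨u, Or.inl rfl, ho⟩
  · refine ⟨-u, Or.inr (by rw [Units.val_neg, huv]), ?_⟩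
    have h1 : orderOf (-1 : (ZMod p)ˣ) = 2 := by
      rw [← orderOf_units, Units.val_neg, Units.val_one, orderOf_neg_one, ZMod.ringChar_zmod_n, if_neg hp2]
    have h2 : -u = (-1 : (ZMod p)ˣ) * u := by rw [neg_one_mul]
    rw [h2, Commute.orderOf_mul_eq_mul_orderOf_of_coprime (Commute.all _ _), h1, ho]
    rw [h1, ho]
    exact (Nat.coprime_two_left).2 (Nat.not_even_iff_odd.1 h)

/-- powers of a primitive root -/
theorem pow_iff {k : Type*} [Field k] (hm : 1 ≤ m) {z : k} (hz : IsPrimitiveRoot z (p ^ m)) (a b : ℕ) :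
    (z ^ a) ^ p ^ (m - 1) = (z ^ b) ^ p ^ (m - 1) ↔ ((a : ℕ) : ZMod p) = (b : ZMod p) := by
  obtain ⟨m, rfl⟩ := Nat.exists_eq_add_of_le' hm
  rw [Nat.add_sub_cancel]
  have hw : IsPrimitiveRoot (z ^ p ^ m) p := by
    refine hz.pow (pow_pos hp.out.pos _) ?_
    rw [pow_succ]
  rw [← pow_mul, ← pow_mul, mul_comm a, mul_comm b, pow_mul, pow_mul, ZMod.natCast_eq_natCast_iff]
  constructor
  · intro h
    have h1 := congrArg id h
    by_cases hab : a ≤ b
    · obtain ⟨c, rfl⟩ := Nat.exists_eq_add_of_le hab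
      have h2 : (z ^ p ^ m) ^ c = 1 := by
        rw [pow_add] at h
        exact (mul_eq_left₀ (pow_ne_zero _ (hw.ne_zero hp.out.ne_zero))).1 h.symm
      have h3 : p ∣ c := (hw.pow_eq_one_iff_dvd c).1 h2
      exact (Nat.modEq_iff_dvd' (Nat.le_add_right _ _)).2 (by rwa [Nat.add_sub_cancel_left])
    · obtain ⟨c, rfl⟩ := Nat.exists_eq_add_of_le (not_le.1 hab).le
      have h2 : (z ^ p ^ m) ^ c = 1 := by
        rw [pow_add] at h
        exact (mul_eq_left₀ (pow_ne_zero _ (hw.ne_zero hp.out.ne_zero))).1 h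
      have h3 : p ∣ c := (hw.pow_eq_one_iff_dvd c).1 h2
      exact ((Nat.modEq_iff_dvd' (Nat.le_add_right _ _)).2 (by rwa [Nat.add_sub_cancel_left])).symm
  · intro h
    have h2 : a % p = b % p := h
    rw [pow_eq_pow_mod a hw.pow_eq_one, pow_eq_pow_mod b hw.pow_eq_one, h2]

/-- **stability of the numbers** under multiplication by `q`, if the characteristic polynomial is fixed by a field
endomorphism with `z ↦ z ^ q` -/
theorem nm_stable {k : Type*} [Field k] (hm : 1 ≤ m) {z : k} (hz : IsPrimitiveRoot z (p ^ m)) {ex : ι → ℕ} {q : ℕ}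
    (hq : ¬ p ∣ q) {φ : k →+* k} (hφ : φ z = z ^ q)
    (h : (∏ i, (Polynomial.X - Polynomial.C (z ^ ex i))).map φ = ∏ i, (Polynomial.X - Polynomial.C (z ^ ex i)))
    (t : ZMod p) : nm p ex ((q : ZMod p) * t) = nm p ex t := by
  classical
  have hq0 : ((q : ℕ) : ZMod p) ≠ 0 := fun h => hq ((ZMod.natCast_eq_zero_iff _ _).1 h)
  have : NeZero p := ⟨hp.out.ne_zero⟩
  have key : ∀ f : ι → k, (∏ i, (Polynomial.X - Polynomial.C (f i))).roots = Finset.univ.val.map f := by
    intro f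
    have := Polynomial.roots_multiset_prod_X_sub_C (Finset.univ.val.map f)
    rw [Multiset.map_map] at this
    exact this
  have h1 : (∏ i, (Polynomial.X - Polynomial.C (z ^ ex i))).map φ =
      ∏ i, (Polynomial.X - Polynomial.C (z ^ (q * ex i))) := by
    rw [Polynomial.map_prod]
    refine Finset.prod_congr rfl fun i _ => ?_
    rw [Polynomial.map_sub, Polynomial.map_X, Polynomial.map_C, map_pow, hφ, ← pow_mul]
  rw [h1] at h
  have h2 := congrArg Polynomial.roots h
  rw [key, key] at h2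
  obtain ⟨c, hc⟩ : ∃ c : ℕ, ((c : ℕ) : ZMod p) = (q : ZMod p) * t := ⟨((q : ZMod p) * t).val, ZMod.natCast_zmod_val _⟩
  have h3 := congrArg (Multiset.countP fun x : k => x ^ p ^ (m - 1) = (z ^ c) ^ p ^ (m - 1)) h2
  rw [Multiset.countP_map, Multiset.countP_map] at h3
  have e1 : ∀ g : ι → ℕ, (Multiset.filter (fun i => (z ^ g i) ^ p ^ (m - 1) = (z ^ c) ^ p ^ (m - 1))
      (Finset.univ : Finset ι).val).card = (univ.filter fun i => ((g i : ℕ) : ZMod p) = (q : ZMod p) * t).card := by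
    intro g
    rw [Finset.card_def, Finset.filter_val]
    congr 1
    refine Multiset.filter_congr fun i _ => ?_
    rw [pow_iff hm hz, hc]
  rw [e1, e1] at h3
  show (univ.filter fun i => ((ex i : ℕ) : ZMod p) = (q : ZMod p) * t).card = _
  rw [← h3]
  unfold nm
  congr 1
  ext i
  simp only [mem_filter, mem_univ, true_and]
  rw [Nat.cast_mul]
  exact mul_right_inj' hq0

/-- stability under `-1` -/
theorem nm_neg {ex : ι → ℕ} (σ : Equiv.Perm ι) (h : ∀ i, p ∣ ex i + ex (σ i)) (t : ZMod p) :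
    nm p ex (-t) = nm p ex t := by
  classical
  unfold nm
  refine card_bij (fun i _ => σ i) ?_ (fun i _ j _ e => σ.injective e) ?_
  · intro i hi
    rw [mem_filter] at hi ⊢
    refine ⟨mem_univ _, ?_⟩
    have h1 := (ZMod.natCast_eq_zero_iff _ _).2 (h i)
    rw [Nat.cast_add, hi.2] at h1
    exact (neg_add_eq_zero.1 h1).symm
  · intro i hi
    rw [mem_filter] at hi
    refine ⟨σ.symm i, mem_filter.2 ⟨mem_univ _, ?_⟩, σ.apply_symm_apply i⟩
    have h1 := (ZMod.natCast_eq_zero_iff _ _).2 (h (σ.symm i))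
    rw [Nat.cast_add, σ.apply_symm_apply, hi.2] at h1
    exact eq_neg_of_add_eq_zero_left h1

/-- **the generic bound**, `L` the order of `⟨q, -1⟩` modulo `p` -/
theorem cnt_of_stable (hm : 2 ≤ m) (hp2 : p ≠ 2) {q : ℕ} (hq : ¬ p ∣ q) (ex : ι → ℕ)
    (h1 : ∀ t : ZMod p, nm p ex ((q : ZMod p) * t) = nm p ex t) (h2 : ∀ t : ZMod p, nm p ex (-t) = nm p ex t) {i₀ : ι}
    (hi : ¬ p ∣ ex i₀) (hb : (univ.filter fun i => ((ex i : ℕ) : ZMod p) ≠ 0).card <
      p * (if Even (orderOf ((q : ℕ) : ZMod p)) then orderOf ((q : ℕ) : ZMod p) else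
        2 * orderOf ((q : ℕ) : ZMod p))) : Cnt p m ex := by
  obtain ⟨g, hg, ho⟩ := exists_unit hp2 hq
  refine cnt_of_unit hm ex g (fun t => ?_) hi (by rwa [ho])
  rcases hg with hg | hg
  · rw [hg, h1]
  · rw [hg, neg_mul, h2, h1]

end Cfsg.Agent.H73.HT
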