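import Cfsg.Agent.S2378
import Cfsg.Agent.H73.HT.Eig

/-!
# S4933, part (O), exceptional groups: the generic case (helper73)

`D` one of the types `G₂, F₄, E₆, E₇, E₈`, `p` odd, prime to `q` and to `|W|`, `e` the order of `q` modulo `p`,
`L` the order of `⟨q, -1⟩` modulo `p`.

* `exists_order` : an element of order `p ^ m`, `p ^ m` the `p`-part of `q ^ e - 1` (from S2378);
* `hasElt_big` : `HasElt` if `|Φ| < p L`.
-/

set_option autoImplicit false
set_option linter.unusedSectionVars false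

namespace Cfsg.Agent.H73.HT

open Cfsg.Agent.ChevalleyStructure.CoxeterGeom Cfsg.Agent.Tits.Roots
  Cfsg.Agent.Nodes.Reps Cfsg.Agent.Nodes.BNOf Cfsg.Agent.Nodes.RGDChev Cfsg.Agent.KFacts.RgdChevCoord
open Cfsg.Lie Cfsg.Agent.ChevalleyStructure Cfsg.Agent.ChevalleyStructure.Elts
  Cfsg.Agent.ChevalleyStructure.RootVecTab
  Cfsg.Agent.ChevalleyStructure.CoxeterGeomTypes
open Cfsg.Agent.H234.HT Finset

/-- the list of S2378 -/
def lst : List (ChevalleyDatum × List ℕ) :=
  [(chevG2, [2, 6]), (chevB2, [2, 4]), (chevD4, [2, 4, 4, 6]), (chevF4, [2, 6, 8, 12]),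
    (chevE6, [2, 5, 6, 8, 9, 12]), (chevE7, [2, 6, 8, 10, 12, 14, 18]), (chevE8, [2, 8, 12, 14, 18, 20, 24, 30])]

/-- **elements of order `p ^ m`** -/
theorem exists_order {F : Type*} [Field F] [Fintype F] {D : ChevalleyDatum} {degs : List ℕ} (hc : (D, degs) ∈ lst)
    {p : ℕ} [Fact p.Prime] (hpq : ¬ p ∣ Fintype.card F) (hpW : ¬ p ∣ degs.prod) (hpG : p ∣ Nat.card ↥(D.group F))
    {m : ℕ} (hm1 : 1 ≤ m) (hm : p ^ m ∣ Fintype.card F ^ orderOf ((Fintype.card F : ℕ) : ZMod p) - 1)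
    (hm' : ¬ p ^ (m + 1) ∣ Fintype.card F ^ orderOf ((Fintype.card F : ℕ) : ZMod p) - 1) :
    ∃ y : ↥(D.group F), orderOf y = p ^ m := by
  classical
  have hpp : p.Prime := Fact.out
  have hq1 : 1 < Fintype.card F := Fintype.one_lt_card
  obtain ⟨P⟩ : Nonempty (Sylow p ↥(D.group F)) := inferInstance
  obtain ⟨E⟩ := S2378.result rfl (D, degs) hc p hpq hpW hpG P
  have hv : padicValNat p ((Polynomial.cyclotomic (orderOf ((Fintype.card F : ℕ) : ZMod p)) ℤ).eval
      ((Fintype.card F : ℕ) : ℤ)).natAbs = m := by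
    have h1 := H130.Homo.val_pow_orderOf (r := p) hpq hq1
    rw [H130.Homo.val] at h1
    rw [← h1]
    have h2 : Fintype.card F ^ orderOf ((Fintype.card F : ℕ) : ZMod p) - 1 ≠ 0 := fun h0 => hm' (h0 ▸ dvd_zero _)
    apply le_antisymm
    · by_contra hlt
      exact hm' ((padicValNat_dvd_iff_le h2).2 (by omega))
    · exact (padicValNat_dvd_iff_le h2).1 hm
  rw [hv] at E
  have hfin : Finite ↥(D.group F) := inferInstance
  set a := (degs.filter (fun e => orderOf ((Fintype.card F : ℕ) : ZMod p) ∣ e)).length with ha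
  have ha0 : 0 < a := by
    rcases Nat.eq_zero_or_pos a with h0 | h0
    · exfalso
      have h1 : Nat.card ↥(P : Subgroup ↥(D.group F)) = 1 := by
        rw [Nat.card_congr E.toEquiv]
        have : IsEmpty (Fin (degs.filter (fun e => orderOf ((Fintype.card F : ℕ) : ZMod p) ∣ e)).length) := by
          rw [← ha, h0]
          infer_instance
        exact Nat.card_unique
      have h2 := P.dvd_card_of_dvd_card hpG
      rw [h1] at h2
      exact hpp.one_lt.ne' (Nat.dvd_one.1 h2)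
    · exact h0
  refine ⟨((E.symm fun _ => Multiplicative.ofAdd 1 : ↥(P : Subgroup ↥(D.group F))) : ↥(D.group F)), ?_⟩
  rw [Subgroup.orderOf_coe, E.symm.orderOf_eq]
  obtain ⟨m, rfl⟩ := Nat.exists_eq_add_of_le' hm1
  apply orderOf_eq_prime_pow
  · intro h
    have h1 := congrFun h ⟨0, ha0⟩
    rw [Pi.pow_apply, Pi.one_apply, ← ofAdd_nsmul, ← ofAdd_zero, Multiplicative.ofAdd.injective.eq_iff, nsmul_one,
      ZMod.natCast_eq_zero_iff] at h1
    have h2 := Nat.le_of_dvd (pow_pos hpp.pos _) h1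
    exact absurd h2 (not_le.2 (Nat.pow_lt_pow_right hpp.one_lt (Nat.lt_succ_self m)))
  · funext i
    rw [Pi.pow_apply, Pi.one_apply, ← ofAdd_nsmul, ← ofAdd_zero, nsmul_one, ZMod.natCast_self]

variable {D : ChevalleyDatum} {l : ℕ} {M : CoxeterMatrix (Fin l)} (hp : IsType D l M)

include hp in
theorem neg_neg' {r : ℕ} (hr : r < D.nroots) (hn : ∀ r < D.nroots, D.neg r < D.nroots) : D.neg (D.neg r) = r := by
  apply vec_inj hp (hn _ (hn _ hr)) hr
  rw [vec_neg hp (hn _ hr), vec_neg hp hr, neg_neg]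

/-- the opposite root -/
def negE (hp : IsType D l M) (hn : ∀ r < D.nroots, D.neg r < D.nroots) : Equiv.Perm (Fin D.nroots) where
  toFun s := ⟨D.neg s, hn _ s.2⟩
  invFun s := ⟨D.neg s, hn _ s.2⟩
  left_inv s := Fin.ext (neg_neg' hp s.2 hn)
  right_inv s := Fin.ext (neg_neg' hp s.2 hn)

include hp in
theorem exv_neg {p m : ℕ} [Fact p.Prime] (hm : 1 ≤ m) (v : Fin l → ZMod (p ^ m))
    (hn : ∀ r < D.nroots, D.neg r < D.nroots) (i : D.Idx) :
    p ∣ exv D v i + exv D v (Equiv.sumCongr (Equiv.refl _) (negE hp hn) i) := by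
  have : NeZero (p ^ m) := ⟨pow_ne_zero _ (Fact.out : p.Prime).ne_zero⟩
  rcases i with i | s
  · exact dvd_zero p
  · refine (dvd_pow_self p (by omega : m ≠ 0)).trans ?_
    rw [← ZMod.natCast_eq_zero_iff]
    show (((∑ i, (vec D l s i : ZMod (p ^ m)) * v i).val +
      (∑ i, (vec D l (D.neg s) i : ZMod (p ^ m)) * v i).val : ℕ) : ZMod (p ^ m)) = 0
    rw [Nat.cast_add, ZMod.natCast_zmod_val, ZMod.natCast_zmod_val, vec_neg hp s.2, ← Finset.sum_add_distrib]
    refine Finset.sum_eq_zero fun i _ => ?_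
    rw [Pi.neg_apply, Int.cast_neg, neg_mul, add_neg_cancel]

theorem card_exv_le {p N : ℕ} (v : Fin l → ZMod N) :
    (univ.filter fun i => ((exv D v i : ℕ) : ZMod p) ≠ 0).card ≤ D.nroots := by
  classical
  have h1 : (univ.filter fun i => ((exv D v i : ℕ) : ZMod p) ≠ 0) ⊆
      (univ : Finset (Fin D.nroots)).image (fun s => (Sum.inr s : D.Idx)) := by
    intro i hi
    rw [mem_filter] at hi
    rcases i with i | s
    · exact absurd (Nat.cast_zero) hi.2
    · exact mem_image.2 ⟨s, mem_univ _, rfl⟩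
  refine (card_le_card h1).trans (card_image_le.trans ?_)
  rw [card_univ, Fintype.card_fin]

theorem charpoly_fix {ι F : Type*} [Fintype ι] [DecidableEq ι] [Field F] [Fintype F] {k : Type*} [Field k] (f : F →+* k)
    {φ : k →+* k} (hφ : ∀ x, φ x = x ^ Fintype.card F) (A : Matrix ι ι F) :
    (A.map f).charpoly.map φ = (A.map f).charpoly := by
  rw [← Matrix.charpoly_map, Matrix.charpoly_map]
  rw [Matrix.charpoly_map, Polynomial.map_map]
  congr 1
  ext x
  rw [RingHom.comp_apply, hφ, ← map_pow, FiniteField.pow_card]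

include hp in
/-- **`Cnt` for every element of order `p ^ m`**, if `|Φ| < p L` -/
theorem cnt_big {F : Type} [Field F] [Fintype F] {p : ℕ} [Fact p.Prime] (hp2 : p ≠ 2) (hpq : ¬ p ∣ Fintype.card F)
    {m : ℕ} (hm : 2 ≤ m) (hb : D.nroots < p * (if Even (orderOf ((Fintype.card F : ℕ) : ZMod p)) then
      orderOf ((Fintype.card F : ℕ) : ZMod p) else 2 * orderOf ((Fintype.card F : ℕ) : ZMod p)))
    {y : ↥(D.group F)} (hy : orderOf y = p ^ m) : ∃ (ζ : AlgebraicClosure F) (v : Fin l → ZMod (p ^ m)),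
      IsPrimitiveRoot ζ (p ^ m) ∧
      Eig (((y : ↥(D.group F)) : GL D.Idx F) : Matrix D.Idx D.Idx F) (algebraMap F (AlgebraicClosure F)) ζ (exv D v) ∧
      Cnt p m (exv D v) := by
  classical
  have hpp : p.Prime := Fact.out
  have hN0 : p ^ m ≠ 0 := pow_ne_zero _ hpp.ne_zero
  have : NeZero (p ^ m) := ⟨hN0⟩
  obtain ⟨r, hr⟩ := CharP.exists F
  have hrp : Fact r.Prime := ⟨CharP.char_is_prime F r⟩
  obtain ⟨⟨n, hn0⟩, -, hcard⟩ := FiniteField.card F r
  have hcard' : Fintype.card F = r ^ n := hcard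
  have hpr : p.Coprime r := by
    rw [Nat.coprime_primes hpp hrp.out]
    rintro rfl
    exact hpq (hcard' ▸ dvd_pow_self p hn0.ne')
  have hkr : CharP (AlgebraicClosure F) r :=
    charP_of_injective_algebraMap (algebraMap F (AlgebraicClosure F)).injective r
  have hNk : ((p ^ m : ℕ) : AlgebraicClosure F) ≠ 0 := by
    intro h0
    have h1 : r ∣ p ^ m := (CharP.cast_eq_zero_iff (AlgebraicClosure F) r _).1 h0
    have h2 := (Nat.prime_dvd_prime_iff_eq hrp.out hpp).1 (hrp.out.dvd_of_dvd_pow h1)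
    rw [h2, Nat.coprime_self] at hpr
    exact hpp.one_lt.ne' hpr
  have : NeZero ((p ^ m : ℕ) : AlgebraicClosure F) := ⟨hNk⟩
  obtain ⟨ζ, hζ⟩ : ∃ ζ : AlgebraicClosure F, IsPrimitiveRoot ζ (p ^ m) :=
    HasEnoughRootsOfUnity.exists_primitiveRoot _ _
  obtain ⟨v, hv, hE⟩ := exists_eig hp r hN0 (Nat.Coprime.pow_left m hpr) (by rw [← hy, pow_orderOf_eq_one] : y ^ p ^ m = 1)
    hζ
  refine ⟨ζ, v, hζ, hE, ?_⟩
  have hn : ∀ r < D.nroots, D.neg r < D.nroots := fun r hr => NPerm.neg_lt hp.inList hr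
  -- some exponent is prime to `p`
  have hex : ∃ i, ¬ p ∣ exv D v i := by
    by_contra hcon
    push Not at hcon
    have h1 : y ^ p ^ (m - 1) = 1 := by
      rw [← hv]
      intro j
      have hlt := NPerm.simple_lt hp.inList (lt_rank hp j)
      have h2 := hcon (Sum.inr ⟨D.simple j, hlt⟩)
      have h3 : exv D v (Sum.inr ⟨D.simple j, hlt⟩) = (v j).val := by
        show (∑ i, (vec D l (D.simple j) i : ZMod (p ^ m)) * v i).val = _
        rw [vec_simple hp j, Finset.sum_eq_single j]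
        · rw [sr_self, Int.cast_one, one_mul]
        · intro i _ hij
          rw [sr_ne hij, Int.cast_zero, zero_mul]
        · intro h
          exact absurd (Finset.mem_univ j) h
      rw [h3] at h2
      obtain ⟨c, hc⟩ := h2
      rw [← ZMod.natCast_zmod_val (v j), hc, ← Nat.cast_mul, ← mul_assoc, ← pow_succ, Nat.sub_add_cancel (by omega),
        Nat.cast_mul, ZMod.natCast_self, zero_mul]
    have h2 := orderOf_dvd_of_pow_eq_one h1
    rw [hy, Nat.pow_dvd_pow_iff_le_right hpp.one_lt] at h2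
    omega
  obtain ⟨i₀, hi₀⟩ := hex
  -- the Frobenius
  have : ExpChar (AlgebraicClosure F) r := ExpChar.prime hrp.out
  have hφ : ∀ x : AlgebraicClosure F, iterateFrobenius (AlgebraicClosure F) r n x = x ^ Fintype.card F := by
    intro x
    rw [iterateFrobenius_def, hcard']
  refine cnt_of_stable hm hp2 hpq (exv D v) (nm_stable (by omega) hζ hpq (hφ ζ) ?_)
    (nm_neg (Equiv.sumCongr (Equiv.refl _) (negE hp hn)) (exv_neg hp (by omega) v hn)) hi₀
    (lt_of_le_of_lt (card_exv_le v) hb)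
  unfold Eig at hE
  rw [← hE]
  exact charpoly_fix _ hφ _

include hp in
/-- **the generic case** -/
theorem hasElt_big {degs : List ℕ} (hc : (D, degs) ∈ lst) {F : Type} [Field F] [Fintype F] {p : ℕ} [Fact p.Prime]
    (hp2 : p ≠ 2) (hpq : ¬ p ∣ Fintype.card F) (hpW : ¬ p ∣ degs.prod) (hpG : p ∣ Nat.card ↥(D.group F))
    (hb : D.nroots < p * (if Even (orderOf ((Fintype.card F : ℕ) : ZMod p)) then
      orderOf ((Fintype.card F : ℕ) : ZMod p) else 2 * orderOf ((Fintype.card F : ℕ) : ZMod p))) :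
    HasElt p (D.group F) (Fintype.card F) := by
  intro m hm hd hd'
  obtain ⟨y, hy⟩ := exists_order hc hpq hpW hpG (by omega) hd hd'
  obtain ⟨ζ, v, h1, h2, h3⟩ := cnt_big hp hp2 hpq hm hb hy
  exact ⟨(y : GL D.Idx F), y.2, AlgebraicClosure F, inferInstance, algebraMap F _, ζ, exv D v, h1, h2, h3⟩

end Cfsg.Agent.H73.HT
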